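import Groth.Prelude.Def_SGA3y
import Groth.Agent.PBW.Basic
import Mathlib.Data.Multiset.Antidiagonal
import Mathlib.Algebra.CharZero.Defs
import Mathlib.LinearAlgebra.Finsupp.LinearCombination
import Mathlib.LinearAlgebra.DirectSum.Finsupp
import Mathlib.LinearAlgebra.Basis.VectorSpace

/-!
# Ordered monomials in primitive elements of a bialgebra

The comultiplication of an ordered monomial, the reduced comultiplication and linear independence
of the monomials in a basis of the primitive elements, in characteristic zero.
-/

universe u v w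

noncomputable section

open TensorProduct

namespace Groth.Agent.CMM

attribute [local instance 100] LieRing.ofAssociativeRing

open SGA3y

section Pair

variable {k : Type u} [CommRing k] {M N : Type*} [AddCommGroup M] [Module k M]
  [AddCommGroup N] [Module k N]

/-- The pairing of two forms with a tensor. -/
def pair (φ : M →ₗ[k] k) (ψ : N →ₗ[k] k) : M ⊗[k] N →ₗ[k] k :=
  LinearMap.mul' k k ∘ₗ TensorProduct.map φ ψ

@[simp] theorem pair_tmul (φ : M →ₗ[k] k) (ψ : N →ₗ[k] k) (m : M) (n : N) :
    pair φ ψ (m ⊗ₜ n) = φ m * ψ n := by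
  simp [pair]

theorem pair_comm (φ : M →ₗ[k] k) (ψ : N →ₗ[k] k) (z : M ⊗[k] N) :
    pair ψ φ (TensorProduct.comm k M N z) = pair φ ψ z := by
  induction z using TensorProduct.induction_on with
  | zero => simp
  | tmul a b => simp [mul_comm]
  | add a b ha hb => simp only [map_add, ha, hb]

theorem sum_map_indicator {α : Type*} [DecidableEq α] (M : Multiset α) (a : α) :
    (M.map fun x => if x = a then (1 : k) else 0).sum = (M.count a : k) := by
  induction M using Multiset.induction_on with
  | empty => simp
  | cons x M ih =>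
    rw [Multiset.map_cons, Multiset.sum_cons, ih, Multiset.count_cons]
    rcases eq_or_ne x a with h | h
    · simp [h, add_comm]
    · simp [h, h.symm]

end Pair

variable {k : Type u} [Field k] {H : Type v} [Ring H] [Bialgebra k H]
variable {ι : Type w} [LinearOrder ι] (b : Module.Basis ι k (primLie k H))

/-- The ordered monomial. -/
def mh (s : Multiset ι) : H := ((s.sort (· ≤ ·)).map fun i => (b i : H)).prod

@[simp] theorem mh_zero : mh b 0 = 1 := by simp [mh]

theorem mh_cons {j : ι} {t : Multiset ι} (h : ∀ a ∈ t, j ≤ a) :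
    mh b (j ::ₘ t) = (b j : H) * mh b t := by
  rw [mh, mh, Multiset.sort_cons (r := (· ≤ ·)) j t h, List.map_cons, List.prod_cons]

@[simp] theorem mh_singleton (i : ι) : mh b {i} = (b i : H) := by
  rw [← Multiset.cons_zero, mh_cons b (by simp), mh_zero, mul_one]

theorem comul_prim (x : primLie k H) :
    CoalgebraStruct.comul (R := k) (x : H) = (x : H) ⊗ₜ[k] (1 : H) + (1 : H) ⊗ₜ[k] (x : H) :=
  x.2

theorem lift_mon (s : Multiset ι) :
    UniversalEnvelopingAlgebra.lift k (primLie k H).incl (PBW.mon b s) = mh b s := by
  rw [PBW.mon, mh, map_list_prod, List.map_map]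
  congr 1
  refine List.map_congr_left fun i _ => ?_
  rw [Function.comp_apply, UniversalEnvelopingAlgebra.lift_ι_apply]
  rfl

theorem comul_mh_list : ∀ l : List ι, l.Pairwise (· ≤ ·) →
    CoalgebraStruct.comul (R := k) (mh b (l : Multiset ι)) =
      ((l : Multiset ι).antidiagonal.map fun x => mh b x.1 ⊗ₜ[k] mh b x.2).sum
  | [], _ => by
    simp only [Multiset.coe_nil, mh_zero, Multiset.antidiagonal_zero, Multiset.map_singleton,
      Multiset.sum_singleton]
    exact (Bialgebra.comul_one (R := k) (A := H)).trans Algebra.TensorProduct.one_def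
  | a :: l, hl => by
    obtain ⟨ha, hl'⟩ := List.pairwise_cons.mp hl
    have hle : ∀ c ∈ (l : Multiset ι), a ≤ c := fun c hc => ha c (Multiset.mem_coe.mp hc)
    rw [← Multiset.cons_coe, mh_cons b hle, Bialgebra.comul_mul, comul_mh_list l hl',
      comul_prim, add_mul, ← Multiset.sum_map_mul_left, ← Multiset.sum_map_mul_left,
      Multiset.antidiagonal_cons, Multiset.map_add, Multiset.sum_add, add_comm]
    congr 1 <;> rw [Multiset.map_map] <;>
      refine congrArg Multiset.sum (Multiset.map_congr rfl fun x hx => ?_) <;>
      have hx' := Multiset.mem_antidiagonal.mp hx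
    · have h1 : ∀ c ∈ x.2, a ≤ c := fun c hc => hle c (hx' ▸ Multiset.mem_add.mpr (Or.inr hc))
      simp [mh_cons b h1, Algebra.TensorProduct.tmul_mul_tmul]
    · have h1 : ∀ c ∈ x.1, a ≤ c := fun c hc => hle c (hx' ▸ Multiset.mem_add.mpr (Or.inl hc))
      simp [mh_cons b h1, Algebra.TensorProduct.tmul_mul_tmul]

theorem comul_mh (s : Multiset ι) : CoalgebraStruct.comul (R := k) (mh b s) =
    (s.antidiagonal.map fun x => mh b x.1 ⊗ₜ[k] mh b x.2).sum := by
  have := comul_mh_list b (s.sort (· ≤ ·)) (Multiset.pairwise_sort _ _)
  rwa [Multiset.sort_eq] at this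

theorem counit_prim (x : primLie k H) : Coalgebra.counit (R := k) (x : H) = 0 := by
  have h := congrArg (fun z => LinearMap.mul' k k
    (TensorProduct.map (Coalgebra.counit (R := k) (A := H)) (Coalgebra.counit (R := k) (A := H)) z))
    (comul_prim x)
  have h2 : ∀ z : H ⊗[k] H, LinearMap.mul' k k
      (TensorProduct.map (Coalgebra.counit (R := k) (A := H)) (Coalgebra.counit (R := k) (A := H)) z) =
      Coalgebra.counit (R := k) (TensorProduct.lid k H ((Coalgebra.counit (R := k) (A := H)).rTensor H z)) := by
    intro z
    induction z using TensorProduct.induction_on with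
    | zero => simp
    | tmul a b => simp
    | add a b ha hb => simp only [map_add, ha, hb]
  simp only [h2, Coalgebra.rTensor_counit_comul] at h
  simpa using h

theorem counit_mh {s : Multiset ι} (hs : s ≠ 0) : Coalgebra.counit (R := k) (mh b s) = 0 := by
  have hne : s.sort (· ≤ ·) ≠ [] := fun e => hs (by rw [← Multiset.sort_eq s (· ≤ ·), e]; rfl)
  obtain ⟨a, l, hl⟩ := List.exists_cons_of_ne_nil hne
  rw [mh, hl, List.map_cons, List.prod_cons, Bialgebra.counit_mul, counit_prim, zero_mul]

variable (k H) in
/-- The reduced comultiplication. -/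
def red : H →ₗ[k] H ⊗[k] H :=
  CoalgebraStruct.comul - (TensorProduct.mk k H H).flip 1 - TensorProduct.mk k H H 1

theorem red_apply (x : H) :
    red k H x = CoalgebraStruct.comul (R := k) x - x ⊗ₜ[k] (1 : H) - (1 : H) ⊗ₜ[k] x := rfl

/-- The number of ways to split the sum of two multisets. -/
def C (p q : Multiset ι) : ℕ := (p + q).antidiagonal.count (p, q)

omit [LinearOrder ι] in
theorem C_pos [DecidableEq ι] (p q : Multiset ι) :
    0 < (p + q).antidiagonal.count (p, q) :=
  Multiset.count_pos.mpr (Multiset.mem_antidiagonal.mpr rfl)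

theorem C_ne_zero [CharZero k] (p q : Multiset ι) : (C p q : k) ≠ 0 :=
  Nat.cast_ne_zero.mpr (C_pos p q).ne'

/-- A family of forms dual to the monomials of degree below `N`. -/
def DualBelow (N : ℕ) (δ : Multiset ι → H →ₗ[k] k) : Prop :=
  ∀ t u : Multiset ι, Multiset.card t < N → Multiset.card u < N →
    δ t (mh b u) = if t = u then 1 else 0

theorem pair_red_mh {N : ℕ} {δ : Multiset ι → H →ₗ[k] k} (hδ : DualBelow b N δ)
    {s p q : Multiset ι} (hs : Multiset.card s ≤ N) (hp : Multiset.card p < N)
    (hq : Multiset.card q < N) (hp0 : p ≠ 0) (hq0 : q ≠ 0) :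
    pair (δ p) (δ q) (red k H (mh b s)) = if p + q = s then (C p q : k) else 0 := by
  have h0 : Multiset.card (0 : Multiset ι) < N := by
    have : 0 ≤ Multiset.card p := Nat.zero_le _
    simp only [Multiset.card_zero]; omega
  have h1 : ∀ t : Multiset ι, t ≠ 0 → Multiset.card t < N → δ t 1 = 0 := fun t ht htN => by
    rw [← mh_zero b, hδ t 0 htN h0, if_neg ht]
  rw [red_apply, map_sub, map_sub, pair_tmul, pair_tmul, h1 p hp0 hp, h1 q hq0 hq, mul_zero,
    zero_mul, sub_zero, sub_zero, comul_mh, map_multiset_sum, Multiset.map_map]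
  have key : (s.antidiagonal.map ((pair (δ p) (δ q)) ∘ fun x => mh b x.1 ⊗ₜ[k] mh b x.2)).sum =
      (s.antidiagonal.map fun x => if x = (p, q) then (1 : k) else 0).sum := by
    refine congrArg Multiset.sum (Multiset.map_congr rfl fun x hx => ?_)
    have hx' := congrArg Multiset.card (Multiset.mem_antidiagonal.mp hx)
    rw [Multiset.card_add] at hx'
    rw [Function.comp_apply, pair_tmul]
    rcases eq_or_ne x.1 0 with e1 | e1
    · rw [e1, mh_zero, h1 p hp0 hp, zero_mul, if_neg]
      rintro rfl
      exact hp0 e1
    rcases eq_or_ne x.2 0 with e2 | e2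
    · rw [e2, mh_zero, h1 q hq0 hq, mul_zero, if_neg]
      rintro rfl
      exact hq0 e2
    have c1 := Multiset.card_pos.mpr e1
    have c2 := Multiset.card_pos.mpr e2
    rw [hδ p x.1 hp (by omega), hδ q x.2 hq (by omega)]
    simp only [Prod.ext_iff, eq_comm (a := p), eq_comm (a := q)]
    split_ifs <;> simp_all
  rw [key, sum_map_indicator]
  split_ifs with h
  · rw [← h]; rfl
  · rw [Multiset.count_eq_zero.mpr fun hm => h (Multiset.mem_antidiagonal.mp hm), Nat.cast_zero]

theorem exists_dual (S : Set (Multiset ι)) (h : LinearIndepOn k (mh b) S) :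
    ∃ δ : Multiset ι → H →ₗ[k] k, ∀ t ∈ S, ∀ u ∈ S, δ t (mh b u) = if t = u then 1 else 0 := by
  classical
  obtain ⟨ρ, hρ⟩ := LinearMap.exists_leftInverse_of_injective
    (Finsupp.linearCombination k fun x : S => mh b x.1)
    (LinearMap.ker_eq_bot.mpr (linearIndependent_iff_injective_finsuppLinearCombination.mp h))
  refine ⟨fun t => if ht : t ∈ S then Finsupp.lapply ⟨t, ht⟩ ∘ₗ ρ else 0, fun t ht u hu => ?_⟩
  have h1 := LinearMap.congr_fun hρ (Finsupp.single ⟨u, hu⟩ 1)
  rw [LinearMap.comp_apply, Finsupp.linearCombination_single, one_smul, LinearMap.id_apply] at h1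
  simp only [dif_pos ht, LinearMap.comp_apply, Finsupp.lapply_apply, h1, Finsupp.single_apply,
    Subtype.mk.injEq, eq_comm (a := u)]

theorem linearIndepOn_mh [CharZero k] (n : ℕ) :
    LinearIndepOn k (mh b) {s | Multiset.card s < n} := by
  classical
  induction n with
  | zero => simp
  | succ n ih =>
    rw [linearIndepOn_iff]
    intro l hl hsum
    have hcard : ∀ s ∈ l.support, Multiset.card s ≤ n := fun s hs =>
      Nat.lt_succ_iff.mp ((Finsupp.mem_supported k l).mp hl hs)
    rw [Finsupp.linearCombination_apply, Finsupp.sum] at hsum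
    have hzero : ∀ s : Multiset ι, Multiset.card s = n → l s = 0 := by
      have hc0 : l 0 = 0 := by
        have h := congrArg (Coalgebra.counit (R := k)) hsum
        rw [map_sum, map_zero, Finset.sum_eq_single (0 : Multiset ι)
          (fun s _ hs => by rw [map_smul, counit_mh b hs, smul_zero])
          (fun h => by rw [Finsupp.notMem_support_iff.mp h, zero_smul, map_zero])] at h
        simpa using h
      intro s hs
      rcases lt_trichotomy n 1 with hn | hn | hn
      · obtain rfl : s = 0 := Multiset.card_eq_zero.mp (by omega)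
        exact hc0
      · obtain ⟨i, rfl⟩ := Multiset.card_eq_one.mp (hs.trans hn)
        by_contra hi
        have hsub : ∀ t ∈ l.support, Multiset.card t = 1 := fun t ht => by
          have := hcard t ht
          rcases Nat.eq_zero_or_pos (Multiset.card t) with h | h
          · rw [Multiset.card_eq_zero.mp h] at ht
            exact absurd hc0 (Finsupp.mem_support_iff.mp ht)
          · omega
        let g : ι →₀ k := l.comapDomain (fun j : ι => ({j} : Multiset ι))
          (fun a _ b _ h => Multiset.singleton_inj.mp h)
        have hg : (b.repr.symm g : H) = 0 := by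
          rw [← hsum, b.repr_symm_apply, Finsupp.linearCombination_apply, Finsupp.sum,
            AddSubmonoidClass.coe_finset_sum]
          refine Finset.sum_bij (fun j _ => ({j} : Multiset ι)) ?_ ?_ ?_ ?_
          · intro j hj
            simpa [g] using hj
          · intro a _ c _ h
            exact Multiset.singleton_inj.mp h
          · intro t ht
            obtain ⟨j, rfl⟩ := Multiset.card_eq_one.mp (hsub t ht)
            exact ⟨j, by simpa [g] using ht, rfl⟩
          · intro j _
            simp [g]
        have hg0 : g = 0 := b.repr.symm.map_eq_zero_iff.mp (Subtype.ext hg)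
        exact hi (by simpa [g] using DFunLike.congr_fun hg0 i)
      · obtain ⟨δ, hδ⟩ := exists_dual b _ ih
        have hδ' : DualBelow b n δ := fun t u ht hu => hδ t ht u hu
        obtain ⟨i, hi⟩ := Multiset.card_pos_iff_exists_mem.mp (by omega : 0 < Multiset.card s)
        obtain ⟨t, rfl⟩ := Multiset.exists_cons_of_mem hi
        rw [Multiset.card_cons] at hs
        have ht0 : t ≠ 0 := fun e => by rw [e, Multiset.card_zero] at hs; omega
        have h := congrArg (fun z => pair (δ {i}) (δ t) (red k H z)) hsum
        simp only [map_sum, map_smul, map_zero] at h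
        rw [Finset.sum_eq_single ({i} + t)] at h
        · rw [pair_red_mh b hδ' (by simp [← hs, add_comm]) (by simp; omega) (by omega)
            (Multiset.singleton_ne_zero i) ht0, if_pos rfl, smul_eq_mul, mul_eq_zero] at h
          rw [← Multiset.singleton_add]
          exact h.resolve_right (C_ne_zero _ _)
        · intro u hu hne
          rw [pair_red_mh b hδ' (hcard u hu) (by simp; omega) (by omega)
            (Multiset.singleton_ne_zero i) ht0, if_neg hne.symm, smul_zero]
        · intro h'
          rw [Finsupp.notMem_support_iff.mp h', zero_smul]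
    refine linearIndepOn_iff.mp ih l ((Finsupp.mem_supported k l).mpr fun s hs => ?_)
      (by rwa [Finsupp.linearCombination_apply, Finsupp.sum])
    rcases (hcard s hs).lt_or_eq with h | h
    · exact h
    · exact absurd (hzero s h) (Finsupp.mem_support_iff.mp hs)

theorem linearIndependent_mh [CharZero k] : LinearIndependent k (mh b) := by
  rw [linearIndependent_iff]
  intro l hl
  refine linearIndepOn_iff.mp (linearIndepOn_mh b (l.support.sup Multiset.card + 1)) l
    ((Finsupp.mem_supported k l).mpr fun s hs => ?_) hl
  exact Nat.lt_succ_of_le (Finset.le_sup (f := Multiset.card) (Finset.mem_coe.mp hs))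

end Groth.Agent.CMM
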