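import Groth.Agent.CMM.Basic
import Groth.Agent.Comod.Coalg

/-!
# The monomials in primitive elements span a connected cocommutative bialgebra

In characteristic zero: the reduced comultiplication of an element whose reduced comultiplication
lies in the span of the monomials is the one of a combination of monomials.
-/

universe u v w

noncomputable section

open TensorProduct

namespace Groth.Agent.CMM

attribute [local instance 100] LieRing.ofAssociativeRing

open SGA3y

variable {k : Type u} [Field k] {H : Type v} [Ring H] [Bialgebra k H]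

theorem red_assoc (x : H) :
    TensorProduct.assoc k H H H ((red k H).rTensor H (red k H x)) =
      (red k H).lTensor H (red k H x) := by
  set a := TensorProduct.assoc k H H H with ha
  set one : H := 1 with hone
  set mid : H ⊗[k] H →ₗ[k] H ⊗[k] (H ⊗[k] H) := (TensorProduct.mk k H H one).lTensor H with hmid
  set pre : H ⊗[k] H →ₗ[k] H ⊗[k] (H ⊗[k] H) := TensorProduct.mk k H (H ⊗[k] H) one with hpre
  set suf : H ⊗[k] H →ₗ[k] H ⊗[k] (H ⊗[k] H) := ((TensorProduct.mk k H H).flip one).lTensor H
    with hsuf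
  let Δ : H →ₗ[k] H ⊗[k] H := CoalgebraStruct.comul
  have hl : ∀ y : H ⊗[k] H, a ((red k H).rTensor H y) = a (Δ.rTensor H y) - mid y - pre y := by
    intro y
    induction y using TensorProduct.induction_on with
    | zero => simp
    | tmul u v => simp [ha, hmid, hpre, red_apply, sub_tmul, Δ, hone]
    | add u v hu hv => simp only [map_add, hu, hv]; abel
  have hr : ∀ y : H ⊗[k] H, (red k H).lTensor H y = Δ.lTensor H y - suf y - mid y := by
    intro y
    induction y using TensorProduct.induction_on with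
    | zero => simp
    | tmul u v => simp [hmid, hsuf, red_apply, tmul_sub, Δ, hone]
    | add u v hu hv => simp only [map_add, hu, hv]; abel
  have hc : a (Δ.rTensor H (Δ x)) = Δ.lTensor H (Δ x) := Coalgebra.coassoc_apply x
  have h1 : Δ (1 : H) = 1 ⊗ₜ[k] 1 :=
    (Bialgebra.comul_one (R := k) (A := H)).trans Algebra.TensorProduct.one_def
  have e1 : a (Δ.rTensor H (x ⊗ₜ one)) = suf (Δ x) := by
    rw [LinearMap.rTensor_tmul]
    induction Δ x using TensorProduct.induction_on with
    | zero => simp
    | tmul u v => simp [ha, hsuf]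
    | add u v hu hv => simp only [add_tmul, map_add, hu, hv]
  have e2 : a (Δ.rTensor H (one ⊗ₜ x)) = one ⊗ₜ (one ⊗ₜ x) := by simp [ha, hone, h1]
  have e3 : Δ.lTensor H (x ⊗ₜ one) = x ⊗ₜ (one ⊗ₜ one) := by simp [hone, h1]
  have e4 : Δ.lTensor H (one ⊗ₜ x) = pre (Δ x) := by simp [hpre]
  rw [hl, hr, red_apply]
  change a (Δ.rTensor H (Δ x - x ⊗ₜ one - one ⊗ₜ x)) - mid _ - pre (Δ x - x ⊗ₜ one - one ⊗ₜ x) =
    Δ.lTensor H (Δ x - x ⊗ₜ one - one ⊗ₜ x) - suf (Δ x - x ⊗ₜ one - one ⊗ₜ x) - mid _
  simp only [map_sub, e1, e2, e3, e4, hc]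
  simp only [hpre, hsuf, TensorProduct.mk_apply, LinearMap.lTensor_tmul, LinearMap.flip_apply]
  abel

theorem pair_counit_red (ψ : H →ₗ[k] k) (x : H) :
    pair Coalgebra.counit ψ (red k H x) = -(Coalgebra.counit (R := k) x * ψ 1) := by
  have h : ∀ z : H ⊗[k] H, pair Coalgebra.counit ψ z =
      ψ (TensorProduct.lid k H ((Coalgebra.counit (R := k) (A := H)).rTensor H z)) := by
    intro z
    induction z using TensorProduct.induction_on with
    | zero => simp
    | tmul u v => simp
    | add u v hu hv => simp only [map_add, hu, hv]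
  rw [red_apply, map_sub, map_sub, pair_tmul, pair_tmul, h, Coalgebra.rTensor_counit_comul]
  simp

theorem comm_red [Coalgebra.IsCocomm k H] (x : H) :
    TensorProduct.comm k H H (red k H x) = red k H x := by
  rw [red_apply, map_sub, map_sub, Coalgebra.comm_comul, TensorProduct.comm_tmul,
    TensorProduct.comm_tmul]
  abel

theorem pair_red_comm [Coalgebra.IsCocomm k H] (φ ψ : H →ₗ[k] k) (x : H) :
    pair φ ψ (red k H x) = pair ψ φ (red k H x) := by
  conv_lhs => rw [← comm_red x]
  exact pair_comm _ _ _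

theorem pair_congr (W : Submodule k H) {φ φ' ψ ψ' : H →ₗ[k] k} (h : ∀ w ∈ W, φ w = φ' w)
    (h' : ∀ w ∈ W, ψ w = ψ' w) {y : H ⊗[k] H}
    (hy : y ∈ LinearMap.range (TensorProduct.map W.subtype W.subtype)) :
    pair φ ψ y = pair φ' ψ' y := by
  obtain ⟨z, rfl⟩ := hy
  induction z using TensorProduct.induction_on with
  | zero => simp
  | tmul u v => simp [h u u.2, h' v v.2]
  | add u v hu hv => simp only [map_add, hu, hv]

variable {ι : Type w} [LinearOrder ι] (b : Module.Basis ι k (primLie k H))

/-- The span of the monomials. -/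
def W : Submodule k H := Submodule.span k (Set.range (mh b))

theorem mh_mem (s : Multiset ι) : mh b s ∈ W b := Submodule.subset_span ⟨s, rfl⟩

theorem one_mem : (1 : H) ∈ W b := by simpa using mh_mem b 0

theorem prim_mem {x : H} (hx : x ∈ primLie k H) : x ∈ W b := by
  have h : ((Submodule.subtype (primLie k H).toSubmodule) ∘ₗ b.repr.symm.toLinearMap) =
      Finsupp.linearCombination k fun i => mh b {i} := by
    refine Finsupp.lhom_ext fun i c => ?_
    simp [b.repr_symm_apply]
  have := LinearMap.congr_fun h (b.repr ⟨x, hx⟩)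
  simp only [LinearMap.comp_apply, LinearEquiv.coe_coe, LinearEquiv.symm_apply_apply] at this
  change x = _ at this
  rw [this, Finsupp.linearCombination_apply]
  exact Submodule.sum_mem _ fun i _ => Submodule.smul_mem _ _ (mh_mem b _)

theorem comul_mem {x : H} (hx : x ∈ W b) :
    CoalgebraStruct.comul (R := k) x ∈
      LinearMap.range (TensorProduct.map (W b).subtype (W b).subtype) := by
  suffices h : W b ≤ (LinearMap.range (TensorProduct.map (W b).subtype (W b).subtype)).comap
      (CoalgebraStruct.comul (R := k)) from h hx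
  refine Submodule.span_le.mpr ?_
  rintro _ ⟨s, rfl⟩
  rw [SetLike.mem_coe, Submodule.mem_comap, comul_mh]
  refine multiset_sum_mem _ fun c hc => ?_
  obtain ⟨x, -, rfl⟩ := Multiset.mem_map.mp hc
  exact ⟨(⟨_, mh_mem b x.1⟩ : W b) ⊗ₜ (⟨_, mh_mem b x.2⟩ : W b), by simp⟩

theorem red_mem {x : H} (hx : x ∈ W b) :
    red k H x ∈ LinearMap.range (TensorProduct.map (W b).subtype (W b).subtype) := by
  rw [red_apply]
  refine sub_mem (sub_mem (comul_mem b hx) ?_) ?_
  · exact ⟨(⟨x, hx⟩ : W b) ⊗ₜ (⟨_, one_mem b⟩ : W b), by simp⟩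
  · exact ⟨(⟨_, one_mem b⟩ : W b) ⊗ₜ (⟨x, hx⟩ : W b), by simp⟩

/-- A family of forms dual to all monomials. -/
def IsDual (δ : Multiset ι → H →ₗ[k] k) : Prop :=
  ∀ t u : Multiset ι, δ t (mh b u) = if t = u then 1 else 0

theorem exists_isDual [CharZero k] : ∃ δ, IsDual b δ := by
  obtain ⟨δ, hδ⟩ := exists_dual b Set.univ ((linearIndependent_mh b).linearIndepOn _)
  exact ⟨δ, fun t u => hδ t trivial u trivial⟩

variable {b} {δ : Multiset ι → H →ₗ[k] k}

theorem pair_red_W (hδ : IsDual b δ) {p q : Multiset ι} (hp : p ≠ 0) (hq : q ≠ 0) :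
    ∀ x ∈ W b, pair (δ p) (δ q) (red k H x) = (C p q : k) * δ (p + q) x := by
  have h : Set.EqOn (pair (δ p) (δ q) ∘ₗ red k H) ⇑((C p q : k) • δ (p + q) : H →ₗ[k] k)
      (Set.range (mh b)) := by
    rintro _ ⟨s, rfl⟩
    rw [LinearMap.comp_apply, pair_red_mh b
      (N := Multiset.card s + Multiset.card p + Multiset.card q + 1) (fun t u _ _ => hδ t u)
      (by omega) (by omega) (by omega) hp hq, LinearMap.smul_apply, hδ]
    split_ifs <;> simp
  exact fun x hx => LinearMap.eqOn_span h hx

theorem delta_zero_eq_counit (hδ : IsDual b δ) :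
    ∀ x ∈ W b, δ 0 x = Coalgebra.counit (R := k) x := by
  have h : Set.EqOn (δ 0) (Coalgebra.counit (R := k) (A := H)) (Set.range (mh b)) := by
    rintro _ ⟨s, rfl⟩
    rw [hδ]
    rcases eq_or_ne s 0 with rfl | hs
    · simp
    · rw [counit_mh b hs, if_neg hs.symm]
  exact fun x hx => LinearMap.eqOn_span h hx

theorem pair_zero_left (hδ : IsDual b δ) {x : H} (hε : Coalgebra.counit (R := k) x = 0)
    (hx : red k H x ∈ LinearMap.range (TensorProduct.map (W b).subtype (W b).subtype))
    (u : Multiset ι) : pair (δ 0) (δ u) (red k H x) = 0 := by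
  rw [pair_congr (W b) (delta_zero_eq_counit hδ) (fun _ _ => rfl) hx, pair_counit_red, hε,
    zero_mul, neg_zero]

theorem cocycle (hδ : IsDual b δ) {x : H}
    (hx : red k H x ∈ LinearMap.range (TensorProduct.map (W b).subtype (W b).subtype))
    {p q r : Multiset ι} (hp : p ≠ 0) (hq : q ≠ 0) (hr : r ≠ 0) :
    (C p q : k) * pair (δ (p + q)) (δ r) (red k H x) =
      (C q r : k) * pair (δ p) (δ (q + r)) (red k H x) := by
  have hl : ∀ y : H ⊗[k] H, pair (δ p) (pair (δ q) (δ r))
      (TensorProduct.assoc k H H H ((red k H).rTensor H y)) =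
        pair (pair (δ p) (δ q) ∘ₗ red k H) (δ r) y := by
    intro y
    induction y using TensorProduct.induction_on with
    | zero => simp
    | tmul u v =>
      rw [LinearMap.rTensor_tmul, pair_tmul, LinearMap.comp_apply]
      induction red k H u using TensorProduct.induction_on with
      | zero => simp
      | tmul a c => simp [mul_assoc]
      | add a c ha hc => simp only [add_tmul, map_add, ha, hc, add_mul]
    | add u v hu hv => simp only [map_add, hu, hv]
  have hr' : ∀ y : H ⊗[k] H, pair (δ p) (pair (δ q) (δ r)) ((red k H).lTensor H y) =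
      pair (δ p) (pair (δ q) (δ r) ∘ₗ red k H) y := by
    intro y
    induction y using TensorProduct.induction_on with
    | zero => simp
    | tmul u v => simp
    | add u v hu hv => simp only [map_add, hu, hv]
  have h := congrArg (pair (δ p) (pair (δ q) (δ r))) (red_assoc x)
  rw [hl, hr', pair_congr (W b) (φ' := (C p q : k) • δ (p + q)) (ψ' := δ r)
      (fun w hw => pair_red_W hδ hp hq w hw) (fun _ _ => rfl) hx,
    pair_congr (W b) (φ' := δ p) (ψ' := (C q r : k) • δ (q + r))
      (fun _ _ => rfl) (fun w hw => pair_red_W hδ hq hr w hw) hx] at h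
  have e : ∀ (c : k) (φ ψ : H →ₗ[k] k) (z : H ⊗[k] H),
      pair (c • φ) ψ z = c * pair φ ψ z ∧ pair φ (c • ψ) z = c * pair φ ψ z := fun c φ ψ z => by
    simp [pair, TensorProduct.map_smul_left, TensorProduct.map_smul_right]
  rwa [(e _ _ _ _).1, (e _ _ _ _).2] at h

theorem C_cocycle (hδ : IsDual b δ) {p q r : Multiset ι} (hp : p ≠ 0) (hq : q ≠ 0) (hr : r ≠ 0) :
    (C p q : k) * C (p + q) r = (C q r : k) * C p (q + r) := by
  have hw : mh b (p + q + r) ∈ W b := mh_mem b _
  have hpq : p + q ≠ 0 := fun h => hp (add_eq_zero.mp h).1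
  have hqr : q + r ≠ 0 := fun h => hq (add_eq_zero.mp h).1
  have h := cocycle hδ (red_mem b hw) hp hq hr
  rw [pair_red_W hδ hpq hr _ hw, pair_red_W hδ hp hqr _ hw, hδ, hδ, if_pos rfl,
    if_pos (add_assoc p q r).symm] at h
  simpa using h

theorem C_comm [Coalgebra.IsCocomm k H] (hδ : IsDual b δ) {p q : Multiset ι} (hp : p ≠ 0)
    (hq : q ≠ 0) : (C p q : k) = C q p := by
  have hw : mh b (p + q) ∈ W b := mh_mem b _
  have h := pair_red_comm (δ p) (δ q) (mh b (p + q))
  rw [pair_red_W hδ hp hq _ hw, pair_red_W hδ hq hp _ hw, hδ, hδ, if_pos rfl,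
    if_pos (add_comm q p)] at h
  simpa using h

theorem eq_zero_of_pair (hδ : IsDual b δ) {y : H ⊗[k] H}
    (hy : y ∈ LinearMap.range (TensorProduct.map (W b).subtype (W b).subtype)) :
    (∃ S : Finset (Multiset ι × Multiset ι), ∀ t u, (t, u) ∉ S → pair (δ t) (δ u) y = 0) ∧
      ((∀ t u, pair (δ t) (δ u) y = 0) → y = 0) := by
  classical
  let L := Finsupp.linearCombination k (mh b)
  obtain ⟨z, rfl⟩ : y ∈ LinearMap.range (TensorProduct.map L L) := by
    obtain ⟨w, rfl⟩ := hy
    induction w using TensorProduct.induction_on with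
    | zero => simp
    | tmul a c =>
      obtain ⟨a', ha⟩ := (Finsupp.mem_span_range_iff_exists_finsupp.mp a.2)
      obtain ⟨c', hc⟩ := (Finsupp.mem_span_range_iff_exists_finsupp.mp c.2)
      exact ⟨a' ⊗ₜ c', by simp [L, Finsupp.linearCombination_apply, ha, hc]⟩
    | add a c ha hc =>
      rw [map_add]
      exact add_mem ha hc
  have hL : ∀ t, δ t ∘ₗ L = Finsupp.lapply t := fun t => by
    refine Finsupp.lhom_ext fun u c => ?_
    simp [L, show ∀ t u, δ t (mh b u) = _ from hδ, Finsupp.single_apply, eq_comm]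
  clear hy
  have key : ∀ t u, pair (δ t) (δ u) (TensorProduct.map L L z) =
      finsuppTensorFinsupp' k (Multiset ι) (Multiset ι) z (t, u) := fun t u => by
    induction z using TensorProduct.induction_on with
    | zero => simp
    | tmul a c =>
      rw [TensorProduct.map_tmul, pair_tmul, ← LinearMap.comp_apply, ← LinearMap.comp_apply,
        hL, hL, finsuppTensorFinsupp'_apply_apply]
      rfl
    | add a c ha hc => simp only [map_add, ha, hc, Finsupp.add_apply]
  refine ⟨⟨(finsuppTensorFinsupp' k (Multiset ι) (Multiset ι) z).support, fun t u h => ?_⟩,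
    fun h => ?_⟩
  · rw [key]
    exact Finsupp.notMem_support_iff.mp h
  · have : z = 0 := (finsuppTensorFinsupp' k (Multiset ι) (Multiset ι)).map_eq_zero_iff.mp
      (Finsupp.ext fun x => by rw [← key x.1 x.2, h]; rfl)
    rw [this, map_zero]

variable [CharZero k] [Coalgebra.IsCocomm k H]

theorem mem_of_red_mem {x : H} (hε : Coalgebra.counit (R := k) x = 0)
    (hx : red k H x ∈ LinearMap.range (TensorProduct.map (W b).subtype (W b).subtype)) :
    x ∈ W b := by
  classical
  obtain ⟨δ, hδ⟩ := exists_isDual b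
  obtain ⟨S, hS⟩ := (eq_zero_of_pair hδ hx).1
  set a : Multiset ι → Multiset ι → k := fun t u => pair (δ t) (δ u) (red k H x) / C t u with ha
  have hassoc : ∀ {p q r : Multiset ι}, p ≠ 0 → q ≠ 0 → r ≠ 0 → a (p + q) r = a p (q + r) := by
    intro p q r hp hq hr
    have h1 := cocycle hδ hx hp hq hr
    have h2 := C_cocycle (b := b) hδ hp hq hr
    simp only [ha]
    rw [div_eq_div_iff (C_ne_zero _ _) (C_ne_zero _ _)]
    refine mul_left_cancel₀ (C_ne_zero (k := k) p q) ?_
    linear_combination (C p (q + r) : k) * h1 - pair (δ p) (δ (q + r)) (red k H x) * h2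
  have hsymm : ∀ {p q : Multiset ι}, p ≠ 0 → q ≠ 0 → a p q = a q p := by
    intro p q hp hq
    simp only [ha, pair_red_comm (δ p) (δ q) x, C_comm (b := b) hδ hp hq]
  let c : Multiset ι → k := fun s =>
    if h : ∃ i, i ∈ s then a {h.choose} (s.erase h.choose) else 0
  have hstep : ∀ {t u : Multiset ι} {i : ι}, i ∈ t → u ≠ 0 →
      a t u = a {i} ((t + u).erase i) := by
    intro t u i hi hu
    obtain ⟨t', rfl⟩ := Multiset.exists_cons_of_mem hi
    rw [Multiset.cons_add, Multiset.erase_cons_head]
    rcases eq_or_ne t' 0 with rfl | ht'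
    · rw [zero_add, Multiset.cons_zero]
    · rw [← Multiset.singleton_add, hassoc (Multiset.singleton_ne_zero i) ht' hu]
  have hc : ∀ {t u : Multiset ι}, t ≠ 0 → u ≠ 0 → a t u = c (t + u) := by
    intro t u ht hu
    obtain ⟨j, hj⟩ := Multiset.exists_mem_of_ne_zero ht
    have hex : ∃ i, i ∈ t + u := ⟨j, Multiset.mem_add.mpr (Or.inl hj)⟩
    simp only [c, dif_pos hex]
    rcases Multiset.mem_add.mp hex.choose_spec with h | h
    · exact hstep h hu
    · rw [hsymm ht hu, hstep h ht, add_comm u t]
  let T : Finset (Multiset ι) :=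
    (S.filter fun p => p.1 ≠ 0 ∧ p.2 ≠ 0).image fun p => p.1 + p.2
  have hT : (0 : Multiset ι) ∉ T := by
    simp only [T, Finset.mem_image, Finset.mem_filter]
    rintro ⟨p, ⟨-, hp, -⟩, hp'⟩
    exact hp (add_eq_zero.mp hp').1
  let z : H := ∑ s ∈ T, c s • mh b s
  have hz : z ∈ W b := Submodule.sum_mem _ fun s _ => Submodule.smul_mem _ _ (mh_mem b s)
  have hεz : Coalgebra.counit (R := k) z = 0 := by
    simp only [z, map_sum, map_smul]
    exact Finset.sum_eq_zero fun s hs => by
      rw [counit_mh b (ne_of_mem_of_not_mem hs hT), smul_zero]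
  have hxz : red k H (x - z) ∈
      LinearMap.range (TensorProduct.map (W b).subtype (W b).subtype) := by
    rw [map_sub]
    exact sub_mem hx (red_mem b hz)
  have hε' : Coalgebra.counit (R := k) (x - z) = 0 := by rw [map_sub, hε, hεz, sub_zero]
  have hred : red k H (x - z) = 0 := by
    refine (eq_zero_of_pair hδ hxz).2 fun t u => ?_
    rcases eq_or_ne t 0 with rfl | ht
    · exact pair_zero_left hδ hε' hxz u
    rcases eq_or_ne u 0 with rfl | hu
    · rw [pair_red_comm]
      exact pair_zero_left hδ hε' hxz t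
    rw [map_sub, map_sub, pair_red_W hδ ht hu z hz, sub_eq_zero]
    have hz' : δ (t + u) z = if t + u ∈ T then c (t + u) else 0 := by
      simp only [z, map_sum, map_smul, show ∀ t u, δ t (mh b u) = _ from hδ, smul_eq_mul, mul_ite, mul_one, mul_zero]
      exact Finset.sum_ite_eq T (t + u) c
    rw [hz']
    split_ifs with hmem
    · rw [← hc ht hu, ha, mul_div_cancel₀ _ (C_ne_zero _ _)]
    · rw [mul_zero]
      refine hS t u fun hm => hmem ?_
      exact Finset.mem_image.mpr ⟨(t, u), Finset.mem_filter.mpr ⟨hm, ht, hu⟩, rfl⟩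
  have hprim : x - z ∈ primLie k H := by
    rw [red_apply, sub_eq_zero, sub_eq_iff_eq_add] at hred
    show CoalgebraStruct.comul (R := k) (x - z) = _
    rw [hred, add_comm]
  simpa using add_mem (prim_mem b hprim) hz

variable (b) in
theorem W_eq_top (hconn : IsConnectedCoalg k H) : W b = ⊤ := by
  by_contra htop
  have hsub : Comod.IsSubcoalg k (W b) := fun x hx => comul_mem b hx
  have hW : HopfRep.IsSubcomod (k := k) (A := H) (W b) := Comod.isSubcomod_of_isSubcoalg hsub
  letI cQ : HopfRep.Comod k H (H ⧸ W b) :=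
    ComodSub.Comod.quot (HopfRep.Comod.regular k H) (W b) hW
  have : Nontrivial (H ⧸ W b) := Submodule.Quotient.nontrivial_iff.mpr htop
  obtain ⟨v₀, hv₀⟩ := exists_ne (0 : H ⧸ W b)
  obtain ⟨U, hfin, hvU, hU⟩ :=
    Comod.exists_finite_subcomod (k := k) (A := H) ({v₀} : Finset (H ⧸ W b))
  have hU0 : U ≠ ⊥ := fun h => hv₀ (by simpa [h] using hvU (by simp : v₀ ∈ ({v₀} : Finset _)))
  obtain ⟨m, hm, -⟩ := Comod.exists_atom_le_of_finite hU hU0
  let M : Submodule k (H ⧸ W b) := m.restrictScalars k
  letI cM : HopfRep.Comod k H M :=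
    ComodSub.Comod.restr cQ M (Comod.isSubcomod_restrictScalars m)
  obtain ⟨e⟩ := Comod.subcomod_equiv m
  haveI : IsSimpleModule (Comod.Dual k H) M := IsSimpleModule.congr (N := ↥m) e
  obtain ⟨hne, hD, hmin⟩ := Comod.isSimpleSubcoalg_coeff (k := k) (C := H) (V := M)
  have h1 : (1 : H) ∈ Comod.coeff k H M := hconn _ hD hne
  have hDle : Comod.coeff k H M ≤ Submodule.span k {(1 : H)} := by
    rcases hmin _ (inf_le_left (b := Submodule.span k {(1 : H)}))
      (Comod.isSubcoalg_inf hD fun c hc => by
        obtain ⟨r, rfl⟩ := Submodule.mem_span_singleton.mp hc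
        refine ⟨(⟨_, Submodule.smul_mem _ r (Submodule.mem_span_singleton_self _)⟩ :
            Submodule.span k {(1 : H)}) ⊗ₜ ⟨1, Submodule.mem_span_singleton_self _⟩, ?_⟩
        rw [map_smul, Bialgebra.comul_one, Algebra.TensorProduct.one_def]
        simp [smul_tmul']) with h | h
    · have hbad : (1 : H) ∈ Comod.coeff k H M ⊓ Submodule.span k {(1 : H)} :=
        ⟨h1, Submodule.mem_span_singleton_self _⟩
      rw [h, Submodule.mem_bot] at hbad
      have := congrArg (Coalgebra.counit (R := k)) hbad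
      simp at this
    · exact inf_eq_left.mp h
  have : Nontrivial M := IsSimpleModule.nontrivial (Comod.Dual k H) M
  obtain ⟨v, hv⟩ := exists_ne (0 : M)
  have hcv : cM.coact v = v ⊗ₜ (1 : H) := by
    obtain ⟨w, hw⟩ := (Comod.coeff_le_iff _).mp hDle v
    have hw' : ∀ w : M ⊗[k] Submodule.span k {(1 : H)},
        ∃ v' : M, (Submodule.span k {(1 : H)}).subtype.lTensor M w = v' ⊗ₜ (1 : H) := by
      intro w
      induction w using TensorProduct.induction_on with
      | zero => exact ⟨0, by simp⟩
      | tmul a c =>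
        obtain ⟨r, hr⟩ := Submodule.mem_span_singleton.mp c.2
        exact ⟨r • a, by simp [← hr, smul_tmul]⟩
      | add a c ha hc =>
        obtain ⟨p, hp⟩ := ha
        obtain ⟨q, hq⟩ := hc
        exact ⟨p + q, by rw [map_add, hp, hq, add_tmul]⟩
    obtain ⟨v', hv'⟩ := hw' w
    rw [hw] at hv'
    have := Comod.contract_counit (k := k) (A := H) v
    rw [Comod.contract_apply, hv'] at this
    simp at this
    exact hv'.trans (by rw [this])
  obtain ⟨x₀, hx₀⟩ := (W b).mkQ_surjective (v : H ⧸ W b)
  have hx₀W : x₀ ∉ W b := fun h => hv (Subtype.ext (by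
    rw [← hx₀]; exact (Submodule.Quotient.mk_eq_zero _).mpr h))
  have hq : (W b).mkQ.rTensor H (CoalgebraStruct.comul (R := k) x₀) =
      (W b).mkQ.rTensor H (x₀ ⊗ₜ (1 : H)) := by
    change cQ.coact ((W b).mkQ x₀) = _
    rw [LinearMap.rTensor_tmul, hx₀]
    have hs : Hoch.IsComodHom H M.subtype :=
      (ComodSub.rTensor_subtype_comp_restrCoact cQ _ (Comod.isSubcomod_restrictScalars m)).symm
    have := LinearMap.congr_fun hs v
    rw [LinearMap.comp_apply, LinearMap.comp_apply] at this
    refine this.trans ?_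
    rw [show HopfRep.Comod.coact (k := k) (A := H) v = v ⊗ₜ (1 : H) from hcv]
    rfl
  let x := x₀ - Coalgebra.counit (R := k) x₀ • (1 : H)
  have hxW : x ∉ W b := fun h => hx₀W (by
    simpa [x] using add_mem h (Submodule.smul_mem _ (Coalgebra.counit (R := k) x₀) (one_mem b)))
  have hxε : Coalgebra.counit (R := k) x = 0 := by simp [x]
  have hr : ∀ φ : H →ₗ[k] k, Comod.slice φ (red k H x) ∈ W b := by
    intro φ
    have h1' : CoalgebraStruct.comul (R := k) x - x ⊗ₜ (1 : H) =
        CoalgebraStruct.comul (R := k) x₀ - x₀ ⊗ₜ (1 : H) := by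
      simp only [x, map_sub, map_smul, sub_tmul, smul_tmul']
      rw [show CoalgebraStruct.comul (R := k) (1 : H) = 1 ⊗ₜ[k] 1 from
        (Bialgebra.comul_one (R := k) (A := H)).trans Algebra.TensorProduct.one_def, smul_tmul']
      abel
    rw [red_apply, h1', map_sub, Comod.slice_tmul]
    refine sub_mem ?_ (Submodule.smul_mem _ _ (one_mem b))
    rw [← Submodule.Quotient.mk_eq_zero, ← Submodule.mkQ_apply, ← Comod.slice_rTensor,
      map_sub, hq, sub_self, map_zero]
  refine hxW (mem_of_red_mem hxε ((Comod.mem_range_map_iff _ _ _).mpr ⟨hr, fun f => ?_⟩))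
  have hsl : ∀ y : H ⊗[k] H, Comod.sliceL f y = Comod.slice f (TensorProduct.comm k H H y) := by
    intro y
    induction y using TensorProduct.induction_on with
    | zero => simp
    | tmul p q => simp
    | add p q hp hq => simp only [map_add, hp, hq]
  rw [hsl, comm_red]
  exact hr f

theorem lift_bijective (hconn : IsConnectedCoalg k H) (b : Module.Basis ι k (primLie k H)) :
    Function.Bijective (UniversalEnvelopingAlgebra.lift k (primLie k H).incl) := by
  have h : (UniversalEnvelopingAlgebra.lift k (primLie k H).incl).toLinearMap ∘ₗ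
      (PBW.equiv b).toLinearMap = Finsupp.linearCombination k (mh b) := by
    refine Finsupp.lhom_ext fun s c => ?_
    rw [LinearMap.comp_apply, Finsupp.linearCombination_single,
      show Finsupp.single s c = c • PBW.z (k := k) s by simp [PBW.z, Finsupp.smul_single],
      map_smul, map_smul]
    refine congrArg (c • ·) ?_
    show UniversalEnvelopingAlgebra.lift k (primLie k H).incl (PBW.Ψ b (PBW.z s)) = _
    rw [PBW.Ψ_z, lift_mon]
  have hbij : Function.Bijective (Finsupp.linearCombination k (mh b)) := by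
    refine ⟨linearIndependent_iff_injective_finsuppLinearCombination.mp (linearIndependent_mh b),
      LinearMap.range_eq_top.mp ?_⟩
    rw [Finsupp.range_linearCombination]
    exact W_eq_top b hconn
  rw [← h, LinearMap.coe_comp] at hbij
  exact (Function.Bijective.of_comp_iff _ (PBW.equiv b).bijective).mp hbij

end Groth.Agent.CMM
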